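/-
The two-dimensional orthogonal groups are dihedral, and recognition of dihedral groups by an inverting involution.
-/
import Mathlib
import Cfsg.Prelude.Def_Classical
import Cfsg.Agent.Lib.ClassicalGroups.OrthCard

set_option autoImplicit false

namespace CfsgLib.SmallOrth

open CfsgLib.ClassicalGroups

/-- A group of order `2n` with a cyclic subgroup of order `n` inverted by an outside involution is dihedral. -/
theorem nonempty_dihedral {G N : Type*} [Group G] [Finite G] [CommGroup N] [IsCyclic N] {n : ℕ}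
    (hN : Nat.card N = n) (hG : Nat.card G = 2 * n) (φ : N →* G) (hφ : Function.Injective φ) (S : G)
    (hS2 : S * S = 1) (hS : ∀ u, S * φ u = φ u⁻¹ * S) (hnot : ∀ u, φ u ≠ S) :
    Nonempty (G ≃* DihedralGroup n) := by
  have hn : 0 < n := by
    have : 0 < Nat.card G := Nat.card_pos
    omega
  have : NeZero n := ⟨hn.ne'⟩
  subst hN
  let ψ : ZMod (Nat.card N) → G := fun i => φ (zmodCyclicMulEquiv inferInstance (Multiplicative.ofAdd i))
  have hψadd : ∀ i j, ψ (i + j) = ψ i * ψ j := fun i j => by simp [ψ, map_mul]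
  have hψneg : ∀ i, S * ψ i = ψ (-i) * S := fun i => by simp only [ψ, hS]; rw [← map_inv]; rfl
  let f : DihedralGroup (Nat.card N) → G := fun x => match x with
    | .r i => ψ i
    | .sr i => S * ψ i
  have hf : ∀ x y, f (x * y) = f x * f y := by
    rintro (i | i) (j | j)
    · simp only [DihedralGroup.r_mul_r, f, hψadd]
    · simp only [DihedralGroup.r_mul_sr, f]
      have : ψ i * S = S * ψ (-i) := by rw [hψneg, neg_neg]
      rw [← mul_assoc, this, mul_assoc, ← hψadd, neg_add_eq_sub]
    · simp only [DihedralGroup.sr_mul_r, f, hψadd, mul_assoc]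
    · simp only [DihedralGroup.sr_mul_sr, f]
      rw [hψneg, mul_assoc, ← mul_assoc S S, hS2, one_mul, ← hψadd, neg_add_eq_sub]
  let F' : DihedralGroup (Nat.card N) →* G := MonoidHom.mk' f hf
  have hinj : Function.Injective F' := by
    rw [injective_iff_map_eq_one]
    rintro (i | i) hi
    · change ψ i = 1 at hi
      have := (zmodCyclicMulEquiv (G := N) inferInstance).injective
        ((hφ (hi.trans (map_one φ).symm)).trans (map_one _).symm)
      rw [ofAdd_eq_one] at this
      rw [this, DihedralGroup.one_def]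
    · change S * ψ i = 1 at hi
      refine absurd ?_ (hnot (zmodCyclicMulEquiv (G := N) inferInstance (Multiplicative.ofAdd (-i))))
      show ψ (-i) = S
      have h1 : ψ (-i) * ψ i = 1 := by
        rw [← hψadd, neg_add_cancel]; simp [ψ]
      exact mul_right_cancel (h1.trans hi.symm)
  have hcard : Nat.card (DihedralGroup (Nat.card N)) = Nat.card G := by rw [DihedralGroup.nat_card, hG]
  exact ⟨(MulEquiv.ofBijective F' ((Nat.bijective_iff_injective_and_card _).mpr ⟨hinj, hcard⟩)).symm⟩

variable {F : Type*} [Field F] [Fintype F]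

theorem plus_one_dihedral {q : ℕ} (hF : Fintype.card F = q) :
    Nonempty (Cfsg.isometryGroup F (Cfsg.quadFormPlus 1 F) ≃* DihedralGroup (q - 1)) := by
  classical
  let mk : ∀ (M N : Matrix (Fin 1 ⊕ Fin 1) (Fin 1 ⊕ Fin 1) F), M * N = 1 → N * M = 1 →
      (∀ v, Cfsg.quadFormPlus 1 F (M.mulVec v) = Cfsg.quadFormPlus 1 F v) →
      Cfsg.isometryGroup F (Cfsg.quadFormPlus 1 F) := fun M N h1 h2 h3 =>
    ⟨⟨M, N, h1, h2⟩, fun u _ => h3 u⟩
  let D : Fˣ → Matrix (Fin 1 ⊕ Fin 1) (Fin 1 ⊕ Fin 1) F :=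
    fun t => Matrix.diagonal (Sum.elim (fun _ => (t : F)) (fun _ => ((t⁻¹ : Fˣ) : F)))
  have hD : ∀ s t, D s * D t = D (s * t) := fun s t => by
    simp only [D, Matrix.diagonal_mul_diagonal]
    congr 1; funext i; rcases i with i | i <;> simp [mul_comm]
  have hD1 : D 1 = 1 := by
    simp only [D, ← Matrix.diagonal_one]
    congr 1; funext i; rcases i with i | i <;> simp
  let φ : Fˣ →* Cfsg.isometryGroup F (Cfsg.quadFormPlus 1 F) := MonoidHom.mk'
    (fun t => mk (D t) (D t⁻¹) (by rw [hD, mul_inv_cancel, hD1]) (by rw [hD, inv_mul_cancel, hD1])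
      (fun v => by simp [D, Cfsg.quadFormPlus, Matrix.mulVec_diagonal]; field_simp))
    (fun s t => Subtype.ext (Units.ext (hD s t).symm))
  let W : Matrix (Fin 1 ⊕ Fin 1) (Fin 1 ⊕ Fin 1) F := Matrix.fromBlocks 0 1 1 0
  have hW : W * W = 1 := by simp [W, Matrix.fromBlocks_multiply]
  let S := mk W W hW hW (fun v => by simp [W, Cfsg.quadFormPlus, Matrix.fromBlocks_mulVec, mul_comm])
  refine nonempty_dihedral (N := Fˣ) (by rw [Nat.card_units, Nat.card_eq_fintype_card, hF]) ?_ φ ?_ S
    (Subtype.ext (Units.ext hW)) (fun u => Subtype.ext (Units.ext ?_)) (fun u h => ?_)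
  · rw [card_isometry_plus, hF]; simp
  · intro s t h
    have := congrFun (congrFun (congrArg (fun g : Cfsg.isometryGroup F (Cfsg.quadFormPlus 1 F) => g.1.1) h)
      (Sum.inl 0)) (Sum.inl 0)
    exact Units.ext (by simpa [φ, mk, D] using this)
  · show W * D u = D u⁻¹ * W
    ext i j
    rcases i with i | i <;> rcases j with j | j <;>
      simp [D, W, Matrix.diagonal_mul, Matrix.mul_diagonal, Matrix.one_apply, Subsingleton.elim i j]
  · have := congrFun (congrFun (congrArg (fun g : Cfsg.isometryGroup F (Cfsg.quadFormPlus 1 F) => g.1.1) h)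
      (Sum.inl 0)) (Sum.inl 0)
    simp [φ, mk, D, S, W] at this

theorem minus_zero_dihedral {q : ℕ} (hF : Fintype.card F = q) (a b : F)
    (hab : ∀ z₁ z₂ : F, z₁ ^ 2 + a * z₁ * z₂ + b * z₂ ^ 2 = 0 → z₁ = 0 ∧ z₂ = 0) :
    Nonempty (Cfsg.isometryGroup F (Cfsg.quadFormMinus 0 F a b) ≃* DihedralGroup (q + 1)) := by
  classical
  have hirr : Fact (∀ r : F, r ^ 2 ≠ -b + a * r) := ⟨fun r hr => one_ne_zero
    (hab (-r) 1 (by linear_combination hr)).2⟩
  let κ : ((Fin 0 ⊕ Fin 0) ⊕ Fin 2 → F) ≃ₗ[F] (QuadraticAlgebra F (-b) a) :=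
    minusBase.trans
      { toFun := fun p => ⟨p.1, p.2⟩
        map_add' := fun _ _ => rfl
        map_smul' := fun _ _ => rfl
        invFun := fun z => (z.re, z.im)
        left_inv := fun _ => rfl
        right_inv := fun _ => rfl }
  have hκ : ∀ v, QuadraticAlgebra.norm (κ v) = Cfsg.quadFormMinus 0 F a b v := fun v => by
    rw [← binQ_minusBase]
    simp [κ, QuadraticAlgebra.norm_def, binQ]
    ring
  let nrm : (QuadraticAlgebra F (-b) a)ˣ →* Fˣ := Units.map QuadraticAlgebra.norm
  let N := nrm.ker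
  have hN : Nat.card N = q + 1 := by
    rw [← hF, ← card_binQ_eq_one hab]
    refine Nat.card_congr
      { toFun := fun u => ⟨(u.1.1.re, u.1.1.im), ?_⟩
        invFun := fun p => ⟨Units.mk0 ⟨p.1.1, p.1.2⟩ ?_, ?_⟩
        left_inv := fun u => Subtype.ext (Units.ext rfl)
        right_inv := fun p => rfl }
    · have : QuadraticAlgebra.norm u.1.1 = 1 := congrArg Units.val u.2
      rw [QuadraticAlgebra.norm_def] at this
      simp only [binQ]; linear_combination this
    · intro h
      have h1 : p.1.1 = 0 := congrArg QuadraticAlgebra.re h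
      have h2 : p.1.2 = 0 := congrArg QuadraticAlgebra.im h
      have := p.2
      simp [binQ, h1, h2] at this
    · refine MonoidHom.mem_ker.mpr (Units.ext ?_)
      show QuadraticAlgebra.norm (⟨p.1.1, p.1.2⟩ : (QuadraticAlgebra F (-b) a)) = 1
      have := p.2
      simp only [binQ] at this
      rw [QuadraticAlgebra.norm_def]; linear_combination this
  have : Finite N := Nat.finite_of_card_ne_zero (by omega)
  have : IsCyclic N :=
    isCyclic_of_injective_ringHom (R := (QuadraticAlgebra F (-b) a)) ((Units.coeHom (QuadraticAlgebra F (-b) a)).comp N.subtype)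
      (Units.val_injective.comp Subtype.val_injective)
  let L : (QuadraticAlgebra F (-b) a) →* Module.End F ((Fin 0 ⊕ Fin 0) ⊕ Fin 2 → F) :=
    { toFun := fun z => κ.symm.toLinearMap.comp ((LinearMap.mulLeft F z).comp κ.toLinearMap)
      map_one' := LinearMap.ext fun v => by simp
      map_mul' := fun z w => LinearMap.ext fun v => by simp [mul_assoc] }
  have hL : ∀ z v, κ (L z v) = z * κ v := fun z v => κ.apply_symm_apply _
  let φ0 : (QuadraticAlgebra F (-b) a)ˣ →* Matrix.GeneralLinearGroup ((Fin 0 ⊕ Fin 0) ⊕ Fin 2) F :=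
    Matrix.GeneralLinearGroup.toLin.symm.toMonoidHom.comp (Units.map L)
  have hφ0 : ∀ u v, (φ0 u).1.mulVec v = L u.1 v := fun u v => by
    show (LinearMap.toMatrix' (L u.1)).mulVec v = _
    rw [LinearMap.toMatrix'_mulVec]
  let φ : N →* Cfsg.isometryGroup F (Cfsg.quadFormMinus 0 F a b) := MonoidHom.mk'
    (fun u => ⟨φ0 u.1, mem_isometryGroup_iff.mpr fun v => by
      have : QuadraticAlgebra.norm u.1.1 = 1 := congrArg Units.val u.2
      rw [hφ0, ← hκ, ← hκ, hL, map_mul, this, one_mul]⟩)
    (fun u w => Subtype.ext (map_mul φ0 u.1 w.1))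
  let C : Module.End F ((Fin 0 ⊕ Fin 0) ⊕ Fin 2 → F) :=
    { toFun := fun v => κ.symm (star (κ v))
      map_add' := fun u v => by simp
      map_smul' := fun c v => by
        have : star (c • κ v) = c • star (κ v) := by ext <;> simp [mul_add, mul_left_comm]
        rw [map_smul, this, map_smul, RingHom.id_apply] }
  have hC : ∀ v, κ (C v) = star (κ v) := fun v => κ.apply_symm_apply _
  have hCC : C * C = 1 := LinearMap.ext fun v => κ.injective (by
    show κ (C (C v)) = κ v
    rw [hC, hC, star_star])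
  let S : Cfsg.isometryGroup F (Cfsg.quadFormMinus 0 F a b) :=
    ⟨Matrix.GeneralLinearGroup.toLin.symm ⟨C, C, hCC, hCC⟩, mem_isometryGroup_iff.mpr fun v => by
      show Cfsg.quadFormMinus 0 F a b ((LinearMap.toMatrix' C).mulVec v) = _
      rw [LinearMap.toMatrix'_mulVec, ← hκ, ← hκ, hC, QuadraticAlgebra.norm_def, QuadraticAlgebra.norm_def]
      simp
      ring⟩
  have hS : ∀ v, S.1.1.mulVec v = C v := fun v => LinearMap.toMatrix'_mulVec C v
  have ext' : ∀ g h : Cfsg.isometryGroup F (Cfsg.quadFormMinus 0 F a b),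
      (∀ v, κ (g.1.1.mulVec v) = κ (h.1.1.mulVec v)) → g = h := fun g h hgh =>
    Subtype.ext (Units.ext (Matrix.ext_of_mulVec_single fun j => κ.injective (hgh _)))
  have hstar : ∀ u : N, star (u.1.1) = (u⁻¹).1.1 := fun u => by
    have h1 : QuadraticAlgebra.norm u.1.1 = 1 := congrArg Units.val u.2
    have h2 := QuadraticAlgebra.algebraMap_norm_eq_mul_star u.1.1
    rw [h1, map_one] at h2
    exact (Units.inv_eq_of_mul_eq_one_right h2.symm).symm
  refine nonempty_dihedral hN ?_ φ ?_ S ?_ (fun u => ext' _ _ fun v => ?_) (fun u h => ?_)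
  · rw [card_isometry_minus hab, hF]; simp
  · intro u w h
    have := congrArg (fun g : Cfsg.isometryGroup F (Cfsg.quadFormMinus 0 F a b) =>
      κ (g.1.1.mulVec (κ.symm 1))) h
    refine Subtype.ext (Units.ext ?_)
    simpa [φ, hφ0, hL] using this
  · exact ext' _ _ fun v => by simp [← Matrix.mulVec_mulVec, hS, hC]
  · simp only [Subgroup.coe_mul, Units.val_mul, ← Matrix.mulVec_mulVec, hS, hC]
    show star (κ ((φ0 u.1).1.mulVec v)) = κ ((φ0 (u⁻¹).1).1.mulVec (C v))
    rw [hφ0, hφ0, hL, hL, hC, star_mul', hstar]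
  · have h1 := congrArg (fun g : Cfsg.isometryGroup F (Cfsg.quadFormMinus 0 F a b) =>
      κ (g.1.1.mulVec (κ.symm 1))) h
    simp [φ, hφ0, hL, hS, hC] at h1
    have h2 := congrArg (fun g : Cfsg.isometryGroup F (Cfsg.quadFormMinus 0 F a b) =>
      κ (g.1.1.mulVec (κ.symm ⟨0, 1⟩))) h
    simp [φ, hφ0, hL, hS, hC, h1, QuadraticAlgebra.ext_iff] at h2
    obtain ⟨ha, h2'⟩ := h2
    refine binDisc_ne_zero hab ?_
    have h2'' : (2 : F) = 0 := by linear_combination h2'
    have ha' : a = 0 := by first | exact ha | exact ha.symm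
    linear_combination a * ha' - 2 * b * h2''

end CfsgLib.SmallOrth
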